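import Mathlib
import Groth.Prelude.Def_EGA43
import Groth.Agent.UOpenLib.HeightLift
import Groth.Agent.CMFlatLib.QFFlat
import Groth.Agent.CMFlatLib.FibreDepth
import Groth.Agent.CMFlatLib.Open
import Groth.Agent.DimIneqLib.StalkFibre
import Groth.Agent.FlatLib.SchemeFlat
import Groth.Agent.UOpenLib.Criterion
import Groth.Agent.S3404

/-!
# Lower bound of the dimension from lifting generizations; miracle flatness for morphisms
-/

set_option autoImplicit false
universe u

open CategoryTheory AlgebraicGeometry TopologicalSpace Topology IsLocalRing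

namespace MiracleLib

theorem exists_series_length {R : Type u} [CommRing R] {n : ℕ} (h : (n : WithBot ℕ∞) ≤ ringKrullDim R) :
    ∃ c : LTSeries (PrimeSpectrum R), c.length = n :=
  Order.le_krullDim_iff.mp h

/-- If generizations lift at every minimal prime of the closed fibre, dimensions add up. -/
theorem add_le_ringKrullDim_of_lift {A B : Type u} [CommRing A] [IsLocalRing A] [IsNoetherianRing A]
    [CommRing B] [IsLocalRing B] [IsNoetherianRing B] [Algebra A B] [IsLocalHom (algebraMap A B)]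
    (hlift : ∀ q : PrimeSpectrum B, PrimeSpectrum.comap (algebraMap A B) q = closedPoint A →
      (∀ q' ≤ q, PrimeSpectrum.comap (algebraMap A B) q' = closedPoint A → q' = q) →
      ∀ p' : PrimeSpectrum A, ∃ q' ≤ q, PrimeSpectrum.comap (algebraMap A B) q' = p') :
    ringKrullDim A + ringKrullDim (B ⧸ (maximalIdeal A).map (algebraMap A B)) ≤ ringKrullDim B := by
  let φ := algebraMap A B
  let I := (maximalIdeal A).map φ
  have hI : I ≤ maximalIdeal B := IsLocalRing.map_maximalIdeal_le φ
  haveI : Nontrivial (B ⧸ I) :=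
    Ideal.Quotient.nontrivial_iff.mpr fun e => (maximalIdeal.isMaximal B).ne_top (top_le_iff.mp (e ▸ hI))
  obtain ⟨n, hn⟩ := CommAlgDim.exists_ringKrullDim_eq (R := B ⧸ I)
  obtain ⟨k, hk⟩ := CommAlgDim.exists_ringKrullDim_eq (R := A)
  obtain ⟨c, hc⟩ := exists_series_length hn.ge
  obtain ⟨Q, hQ, hQc⟩ := Ideal.exists_minimalPrimes_le (show (⊥ : Ideal (B ⧸ I)) ≤ c.head.asIdeal from bot_le)
  let mk := Ideal.Quotient.mk I
  let Qp : PrimeSpectrum (B ⧸ I) := ⟨Q, hQ.1.1⟩
  let q := PrimeSpectrum.comap mk Qp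
  have hcomap : ∀ q' : PrimeSpectrum B, I ≤ q'.asIdeal → PrimeSpectrum.comap φ q' = closedPoint A := fun q' h =>
    PrimeSpectrum.ext (((maximalIdeal.isMaximal A).eq_of_le (PrimeSpectrum.comap φ q').isPrime.ne_top
      (Ideal.map_le_iff_le_comap.mp h)).symm)
  have hIq : I ≤ q.asIdeal := fun a ha => by
    show mk a ∈ Q
    rw [Ideal.Quotient.eq_zero_iff_mem.mpr ha]
    exact Q.zero_mem
  have hmin : ∀ q' ≤ q, PrimeSpectrum.comap φ q' = closedPoint A → q' = q := fun q' hq' he => by
    have hIq' : I ≤ q'.asIdeal := Ideal.map_le_iff_le_comap.mpr (congrArg PrimeSpectrum.asIdeal he).ge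
    refine le_antisymm hq' ?_
    haveI : (q'.asIdeal.map mk).IsPrime :=
      Ideal.map_isPrime_of_surjective Ideal.Quotient.mk_surjective (by rw [Ideal.mk_ker]; exact hIq')
    have hback : (q'.asIdeal.map mk).comap mk = q'.asIdeal := by
      rw [Ideal.comap_map_of_surjective _ Ideal.Quotient.mk_surjective, ← RingHom.ker_eq_comap_bot,
        Ideal.mk_ker, sup_eq_left]
      exact hIq'
    have hle : q'.asIdeal.map mk ≤ Q := Ideal.map_le_iff_le_comap.mpr hq'
    have := hQ.2 ⟨this, bot_le⟩ hle
    show q.asIdeal ≤ q'.asIdeal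
    rw [← hback]
    exact Ideal.comap_mono this
  -- a longest chain of the base below the closed point
  have hk' : (k : ℕ∞) ≤ (closedPoint A).asIdeal.height := by
    have h : ((k : ℕ∞) : WithBot ℕ∞) ≤ ((maximalIdeal A).height : WithBot ℕ∞) := by
      rw [IsLocalRing.maximalIdeal_height_eq_ringKrullDim, hk]; rfl
    exact_mod_cast h
  rw [(closedPoint A).height_eq_orderHeight] at hk'
  obtain ⟨cA, hcA, hcAl⟩ := Order.exists_series_of_le_height (closedPoint A) hk'
  obtain ⟨d, hdl, hdq, -⟩ := UOpenLib.exists_series_of_lift φ q (fun q' h he => hmin q' h (he.trans (hcomap q hIq)))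
    k ⊥ cA hcAl (hcA.trans (hcomap q hIq).symm) bot_le fun p' _ _ => hlift q (hcomap q hIq) hmin p'
  let c' : LTSeries (PrimeSpectrum B) := c.map (PrimeSpectrum.comap mk) (RingHom.strictMono_comap_of_surjective Ideal.Quotient.mk_surjective)
  have hc' : q ≤ c'.head := by
    rw [LTSeries.head_map]
    exact Ideal.comap_mono hQc
  obtain ⟨e, he, hel⟩ : ∃ e : LTSeries (PrimeSpectrum B), n ≤ e.length ∧ e.head = q := by
    rcases hc'.eq_or_lt with h | h
    · exact ⟨c', hc.ge, h.symm⟩
    · exact ⟨c'.cons q h, hc.ge.trans (by simp [c']), RelSeries.head_cons _ _ _⟩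
  have := Order.LTSeries.length_le_krullDim (RelSeries.smash d e (hdq.trans hel.symm))
  show ringKrullDim A + ringKrullDim (B ⧸ I) ≤ _
  rw [hk, hn]
  refine le_trans ?_ this
  rw [RelSeries.smash_length, hdl, ← Nat.cast_add]
  exact_mod_cast Nat.add_le_add_left he k

/-- Lifting of generizations at the maximal points of the fibre gives the dimension formula. -/
theorem add_le_stalk_dim {X Y : Scheme.{u}} [IsLocallyNoetherian Y] (f : X ⟶ Y) [LocallyOfFiniteType f] (x : X)
    (h : ∀ z : ↥(f.fiber (f x)), f.asFiber x ∈ closure {z} → (∀ z' : ↥(f.fiber (f x)), z ∈ closure {z'} → z' = z) →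
      EGA43.IsOpenAt f.base (f.fiberι (f x) z)) :
    ringKrullDim (Y.presheaf.stalk (f x)) + ringKrullDim ((f.fiber (f x)).presheaf.stalk (f.asFiber x)) ≤
      ringKrullDim (X.presheaf.stalk x) := by
  letI := (f.stalkMap x).hom.toAlgebra
  haveI : IsLocalHom (algebraMap (Y.presheaf.stalk (f x)) (X.presheaf.stalk x)) :=
    inferInstanceAs (IsLocalHom (f.stalkMap x).hom)
  haveI : IsLocallyNoetherian X := LocallyOfFiniteType.isLocallyNoetherian f
  obtain ⟨e⟩ := CMFlatLib.nonempty_fibre_equiv f x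
  rw [ringKrullDim_eq_of_ringEquiv e]
  refine add_le_ringKrullDim_of_lift fun q hq hmin p' => ?_
  let iX := X.fromSpecStalk x
  let iY := Y.fromSpecStalk (f x)
  have hcomm : ∀ r : PrimeSpectrum (X.presheaf.stalk x),
      f (iX r) = iY (PrimeSpectrum.comap (f.stalkMap x).hom r) := fun r => by
    have := congr($(Scheme.SpecMap_stalkMap_fromSpecStalk f (x := x)) r)
    rw [Scheme.Hom.comp_apply, Scheme.Hom.comp_apply] at this
    exact this.symm
  have hy : iY (closedPoint (Y.presheaf.stalk (f x))) = f x := Scheme.fromSpecStalk_closedPoint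
  have hfz : f (iX q) = f x := by
    rw [hcomm]
    exact (congrArg iY hq).trans hy
  obtain ⟨z, hz⟩ : iX q ∈ Set.range (f.fiberι (f x)) := (f.range_fiberι (f x)).ge hfz
  have hqx : iX q ⤳ x := by
    have : iX q ∈ Set.range iX := ⟨q, rfl⟩
    rwa [Scheme.range_fromSpecStalk] at this
  have hzx : f.asFiber x ∈ closure {z} := by
    rw [← specializes_iff_mem_closure, ← (f.fiberι (f x)).isEmbedding.isInducing.specializes_iff, hz, f.fiberι_asFiber]
    exact hqx
  have hzmax : ∀ z' : ↥(f.fiber (f x)), z ∈ closure {z'} → z' = z := fun z' hz' => by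
    have h1 : f.fiberι (f x) z' ⤳ iX q := hz ▸ (specializes_iff_mem_closure.mpr hz').map (f.fiberι (f x)).continuous
    obtain ⟨q', hq'⟩ : ∃ q' : PrimeSpectrum (X.presheaf.stalk x), iX q' = f.fiberι (f x) z' := by
      show f.fiberι (f x) z' ∈ Set.range iX
      rw [Scheme.range_fromSpecStalk]; exact h1.trans hqx
    have h2 : q' ≤ q := (PrimeSpectrum.le_iff_specializes _ _).mpr
      (iX.isEmbedding.isInducing.specializes_iff.mp (hq' ▸ h1))
    have h3 : PrimeSpectrum.comap (f.stalkMap x).hom q' = closedPoint _ := iY.isEmbedding.injective (by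
      rw [← hcomm, hq', hy]
      exact (f.range_fiberι (f x)).le ⟨z', rfl⟩)
    exact (f.fiberι (f x)).isEmbedding.injective (hq'.symm.trans ((congrArg iX (hmin q' h2 h3)).trans hz.symm))
  have hopen := h z hzx hzmax
  rw [hz] at hopen
  obtain ⟨ζ, hζ, hfζ⟩ := (Groth.Agent.S3404.result f (iX q)).1 hopen (iY p') (by
    exact (((IsLocalRing.specializes_closedPoint p').map iY.continuous).trans (specializes_of_eq hy)).trans (specializes_of_eq hfz.symm))
  obtain ⟨q', hq'⟩ : ∃ q' : PrimeSpectrum (X.presheaf.stalk x), iX q' = ζ := by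
    show ζ ∈ Set.range iX
    rw [Scheme.range_fromSpecStalk]; exact hζ.trans hqx
  refine ⟨q', (PrimeSpectrum.le_iff_specializes _ _).mpr (iX.isEmbedding.isInducing.specializes_iff.mp (hq' ▸ hζ)),
    iY.isEmbedding.injective ?_⟩
  exact (hcomm q').symm.trans ((congrArg f hq').trans hfζ)

end MiracleLib
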